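import Mathlib
import Cfsg.Agent.AQ.LocN
import Cfsg.Agent.AP.LocB

/-! Fusion inside `C(V i)`. -/

set_option autoImplicit false
set_option linter.unusedSectionVars false
open Subgroup Equiv
open Cfsg.Agent.Inv.Fz

namespace Cfsg.Agent.AQ
open Cfsg.Agent.AP (w Y odd_Y cj_Y cj_Y_le via_via via_swap via_mul via_inj w_via via_mem_alt four_dvd_w conj_of_w)

open Cfsg.Agent.AP.LocB

namespace Pat
variable {G : Type*} [Group G] [Finite G] {ι : Type} [Fintype ι] [DecidableEq ι] [Nontrivial ι] (P : Pat G ι)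

theorem lb_act {n : G} (σ : Perm ι) {f ψ : ι → Bool × Bool}
    (h : ∀ m, n * P.F (sg m (f m)) * n⁻¹ = P.F (sg (σ m) (ψ m))) :
    n * P.F (ee f) * n⁻¹ = P.F (ee fun l => ψ (σ.symm l)) := by
  have key : ∀ s : Finset ι, n * P.F (ee fun m => if m ∈ s then f m else (false, false)) * n⁻¹ =
      P.F (ee fun l => if σ.symm l ∈ s then ψ (σ.symm l) else (false, false)) := by
    intro s
    induction s using Finset.induction_on with
    | empty => simp [ee_zero, P.F_one]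
    | insert j s hj ih =>
      have := congrArg₂ (· * ·) (h j) ih
      simp only [conj_mul] at this
      rw [sg, sg, P.F_ee_mul, P.F_ee_mul] at this
      convert this using 3
      · congr 1
        congr 1
        ext l <;> by_cases h : l = j <;> simp [h, hj]
      · ext l <;> by_cases h : l = σ j <;> simp [h, hj, Equiv.symm_apply_eq]
  simpa using key Finset.univ

theorem lb_act' {n : G} {σ : Perm ι} (h : ∀ m, cj n (P.V m) = P.V (σ m)) (f : ι → Bool × Bool) :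
    ∃ f' : ι → Bool × Bool, n * P.F (ee f) * n⁻¹ = P.F (ee f') ∧
      ∀ m, n * P.F (sg m (f m)) * n⁻¹ = P.F (sg (σ m) (f' (σ m))) := by
  have : ∀ m, ∃ v, P.F (sg (σ m) v) = n * P.F (sg m (f m)) * n⁻¹ := fun m =>
    P.mem_V.1 (h m ▸ conj_mem_cj.2 (P.mem_V.2 ⟨_, rfl⟩))
  choose ψ hψ using this
  exact ⟨_, P.lb_act σ fun m => (hψ m).symm, fun m => by rw [σ.symm_apply_apply, hψ]⟩

theorem lb_sg_one {m : ι} {v : Bool × Bool} : P.F (sg m v) = 1 ↔ v = (false, false) := by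
  refine ⟨fun e => ?_, fun e => by rw [e, sg_zero, P.F_one]⟩
  by_contra hn
  have := P.wt_sg m hn
  rw [e, P.wt_one] at this
  exact absurd this (by decide)

theorem lb_zero {n : G} {m l : ι} {u v : Bool × Bool} (h : n * P.F (sg m u) * n⁻¹ = P.F (sg l v)) :
    v = (false, false) ↔ u = (false, false) := by
  rw [← P.lb_sg_one (m := l), ← h, ← P.lb_sg_one (m := m), conj_eq_one_iff]

theorem lb_t_cent {a b : Pr ι} {m : ι} (ha : blk a ≠ some m) (hb : blk b ≠ some m) :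
    P.t a b ∈ centralizer (P.V m : Set G) := by
  refine P.mem_cent_V ((P.F_comm (P.tt_mem _ _) (P.mx_mem m)).2 ?_) (P.d_eq m ▸ P.t_comm _ _ _ _)
  have := ee_conj_tt (fun l => if l = m then (true, false) else (false, false)) a b
  have k : ∀ {a : Pr ι}, blk a ≠ some m → mv (fun l => if l = m then (true, false) else (false, false)) a = a := by
    rintro (_ | ⟨l, c⟩) h
    · rfl
    · simp [show l ≠ m by simpa using h]
  rw [k ha, k hb] at this
  exact (mul_inv_eq_iff_eq_mul.1 this).symm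

theorem lb_t_norm (a b : Pr ι) (m : ι) : cj (P.t a b) (P.V m) = P.V m :=
  P.la_norm (P.d_mem_V m) (P.d_ne_one m) (P.F_mem (P.tt_mem a b)) (P.d_eq m ▸ P.t_comm _ _ _ _)

theorem lb_tr {j l : ι} (h : l ≠ j) : Tr (P.t (some (j, false)) (some (l, false))) (P.V j) (P.d j) := by
  have h1 : P.t (some (j, false)) (some (l, false)) * P.d j * (P.t (some (j, false)) (some (l, false)))⁻¹ = P.d j := by
    rw [mul_inv_eq_iff_eq_mul, P.d_eq]; exact P.t_comm _ _ _ _
  have h' : blk (some (l, false)) ≠ some j := by simpa using h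
  refine ⟨h1, fun v hv v1 vd => ?_⟩
  rcases P.mem_V'.1 hv with rfl | rfl | rfl | rfl
  · exact absurd rfl v1
  · exact P.t_conj_x j false h'
  · exact absurd rfl vd
  · rw [← conj_mul, P.t_conj_x j false h', h1]

/-- Local transitivity on `V j`. -/
theorem lb_loc (j : ι) {c : G} (hc : c ∈ P.V j) (h1 : c ≠ 1) : ∃ r : G, cj r (P.V j) = P.V j ∧
    (∀ m, m ≠ j → r ∈ centralizer (P.V m : Set G)) ∧ r * P.d j * r⁻¹ = c := by
  obtain ⟨n, hn, e⟩ := P.ctrl (x := P.F (ee fun _ => (false, true)))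
    (y := P.F (ee fun m => if m = j then (true, false) else (false, true)))
    (P.mem_E.2 ⟨_, rfl⟩) (P.mem_E.2 ⟨_, rfl⟩) ((P.fus _ (P.ee_mem _) _ (P.ee_mem _) (ee_sq _)
      (ee_sq _)).2 (by
        rw [w_ee, w_ee]; congr 2; ext m; by_cases h : m = j <;> simp [h]))
  obtain ⟨σ, hσ⟩ := (P.wcG (hn.le.trans P.E_le_S)).2
  obtain ⟨f', e1, e2⟩ := P.lb_act' hσ fun _ => (false, true)
  obtain rfl := ee_inj (P.F_inj (P.ee_mem _) (P.ee_mem _) (e.symm.trans e1))
  obtain ⟨m0, rfl⟩ := σ.surjective j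
  obtain ⟨m1, hm⟩ := exists_ne m0
  have hl : σ m1 ≠ σ m0 := σ.injective.ne hm
  have a0 : n * P.d m0 * n⁻¹ = P.x (σ m0) := by
    have := e2 m0; simp only [if_true] at this; exact this
  have a1 : n * P.d m1 * n⁻¹ = P.d (σ m1) := by
    have := e2 m1; simp only [if_neg hl] at this; exact this
  have t0 := (P.lb_tr hm).conj n
  have t1 := (P.lb_tr hm.symm).conj n
  rw [hσ, a0] at t0
  rw [hσ, a1, P.t_symm] at t1
  have t2 := P.lb_tr hl
  have t3 := P.lb_tr hl.symm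
  rw [P.t_symm] at t3
  obtain ⟨u, hu⟩ : ∃ u, u = n * P.t (some (m0, false)) (some (m1, false)) * n⁻¹ := ⟨_, rfl⟩
  have t4 : ∀ m, m ≠ σ m0 → m ≠ σ m1 → u ∈ centralizer (P.V m : Set G) := fun m h2 h3 => by
    obtain ⟨m, rfl⟩ := σ.surjective m
    rw [← hσ, ← cj_centralizer, hu, conj_mem_cj]
    exact P.lb_t_cent (fun e => h2 (by rw [← Option.some.inj e])) fun e => h3 (by rw [← Option.some.inj e])
  rw [← hu] at t0 t1
  have hxd := P.E_comm (P.V_le_E _ (P.x_mem_V (σ m0))) (P.V_le_E _ (P.d_mem_V (σ m0)))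
  obtain ⟨r, hr⟩ : ∃ r, r = P.t (some (σ m0, false)) (some (σ m1, false)) * u := ⟨_, rfl⟩
  have r0 : ∀ v, r * v * r⁻¹ = P.t (some (σ m0, false)) (some (σ m1, false)) * (u * v * u⁻¹) *
      (P.t (some (σ m0, false)) (some (σ m1, false)))⁻¹ := fun v => by rw [hr]; group
  have r1 : r * P.x (σ m0) * r⁻¹ = P.x (σ m0) * P.d (σ m0) := by
    rw [r0, t0.1, t2.2 _ (P.x_mem_V _) (P.la_x_ne _).1 (P.la_x_ne _).2]
  have r2 : r * P.d (σ m0) * r⁻¹ = P.x (σ m0) := by
    rw [r0, t0.2 _ (P.d_mem_V _) (P.d_ne_one _) (P.la_x_ne _).2.symm, ← conj_mul, t2.1,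
      t2.2 _ (P.x_mem_V _) (P.la_x_ne _).1 (P.la_x_ne _).2, hxd, ← mul_assoc, P.d_sq, one_mul]
  have r3 : cj r (P.V (σ m0)) = P.V (σ m0) := cj_eq_of_le (cj_le_iff.2 fun v hv => by
    have hx := P.x_mem_V (σ m0)
    have hd := P.d_mem_V (σ m0)
    rcases P.mem_V'.1 hv with rfl | rfl | rfl | rfl
    exacts [by simp, r1 ▸ mul_mem hx hd, r2 ▸ hx, by
      rw [← conj_mul, r1, r2]; exact mul_mem (mul_mem hx hd) hx])
  have r4 : ∀ m, m ≠ σ m0 → r ∈ centralizer (P.V m : Set G) := fun m h2 => by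
    rw [hr]
    by_cases h3 : m = σ m1
    · rw [h3]; exact t3.mul t1 (P.d_sq _)
    · exact mul_mem (P.lb_t_cent (by simpa using Ne.symm h2) (by simpa using Ne.symm h3)) (t4 m h2 h3)
  rcases P.mem_V'.1 hc with rfl | rfl | rfl | rfl
  · exact absurd rfl h1
  · exact ⟨r, r3, r4, r2⟩
  · exact ⟨1, cj_one _, fun _ _ => one_mem _, by simp⟩
  · refine ⟨r * r, by rw [← cj_cj, r3, r3], fun m h => mul_mem (r4 m h) (r4 m h), ?_⟩
    rw [← r1, ← r2]; group

/-- A transposition of blocks. -/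
theorem lb_swap {j l : ι} (h : j ≠ l) : ∃ s : G, ∀ m, cj s (P.V m) = P.V (swap j l m) := by
  obtain ⟨j0, l0, h0, t, ht, -, h1⟩ := P.tm.exists_swap P.sylA
  have hV : ∀ m, V0 m ≤ P.T := fun m => (V0_le_J0 m).trans P.J
  have h2 : ∀ m, cj (P.F t) (P.V m) = P.V (swap j0 l0 m) := fun m => by
    obtain ⟨g, hg, -⟩ := P.toStd (P.isV_V m) (P.d_mem_V m) (P.d_ne_one m) (swap j0 l0 m)
    refine eq_of_le_of_card_ge (cj_le_iff.2 fun v hv => ?_) (by rw [← hg, card_cj, card_cj])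
    obtain ⟨x, hx, rfl⟩ := (P.mem_im (hV m)).1 hv
    exact (P.mem_im (hV _)).2 ⟨_, h1 m x hx, P.F_conj ht (hV m hx)⟩
  have hw : ∀ j l : ι, j ≠ l →
      w (ee fun m => if m = j ∨ m = l then (false, true) else (false, false)) = 8 := fun j l h => by
    rw [w_ee, show (Finset.univ.filter _) = {j, l} by
      ext m; by_cases h1 : m = j <;> by_cases h2 : m = l <;> simp [h1, h2], Finset.card_pair h]
  obtain ⟨n, hn, e⟩ := P.ctrl (P.mem_E.2 ⟨_, rfl⟩) (P.mem_E.2 ⟨_, rfl⟩)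
    ((P.fus _ (P.ee_mem _) _ (P.ee_mem _) (ee_sq _) (ee_sq _)).2 ((hw j0 l0 h0).trans (hw j l h).symm))
  obtain ⟨σ, hσ⟩ := (P.wcG (hn.le.trans P.E_le_S)).2
  obtain ⟨f', e1, e2⟩ := P.lb_act' hσ fun m => if m = j0 ∨ m = l0 then (false, true) else (false, false)
  obtain rfl := ee_inj (P.F_inj (P.ee_mem _) (P.ee_mem _) (e.symm.trans e1))
  have a0 : σ j0 = j ∨ σ j0 = l := or_iff_not_imp_left.2 (by simpa using P.lb_zero (e2 j0))
  have a1 : σ l0 = j ∨ σ l0 = l := or_iff_not_imp_left.2 (by simpa using P.lb_zero (e2 l0))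
  have a2 : swap j l = swap (σ j0) (σ l0) := by
    have := σ.injective.ne h0
    rcases a0 with a0 | a0 <;> rcases a1 with a1 | a1 <;> rw [a0, a1] at this ⊢
    exacts [absurd rfl this, swap_comm _ _, absurd rfl this]
  refine ⟨n * P.F t * n⁻¹, fun m => ?_⟩
  obtain ⟨m, rfl⟩ := σ.surjective m
  rw [← hσ, cj_cj, inv_mul_cancel_right, ← cj_cj, h2, hσ, a2, σ.injective.swap_apply]

theorem lb_swap' {i j l : ι} (h : j ≠ l) (hj : j ≠ i) (hl : l ≠ i) :
    ∃ s ∈ centralizer (P.V i : Set G), ∀ m, cj s (P.V m) = P.V (swap j l m) := by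
  obtain ⟨s, hs⟩ := P.lb_swap h
  have h1 : cj s (P.V i) = P.V i := by rw [hs, swap_apply_of_ne_of_ne hj.symm hl.symm]
  obtain ⟨r, r1, r2, r3⟩ := P.lb_loc i (h1 ▸ conj_mem_cj.2 (P.d_mem_V i) : s * P.d i * s⁻¹ ∈ P.V i)
    (by simpa using P.d_ne_one i)
  have r4 : ∀ m, cj r⁻¹ (P.V m) = P.V m := fun m => by
    by_cases e : m = i
    · rw [e]; exact cj_eq_iff.2 (inv_mem (cj_eq_iff.1 r1))
    · exact cj_eq_of_mem_centralizer (inv_mem (r2 m e))
  have h2 : ∀ m, cj (r⁻¹ * s) (P.V m) = P.V (swap j l m) := fun m => by rw [← cj_cj, hs, r4]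
  have h3 : r⁻¹ * s * P.d i * (r⁻¹ * s)⁻¹ = P.d i := by
    calc _ = r⁻¹ * (s * P.d i * s⁻¹) * r := by group
      _ = _ := by rw [← r3]; group
  generalize r⁻¹ * s = k at h2 h3
  have h4 : k * P.x i * k⁻¹ ∈ P.V i := by
    have := h2 i
    rw [swap_apply_of_ne_of_ne hj.symm hl.symm] at this
    exact this ▸ conj_mem_cj.2 (P.x_mem_V i)
  rcases P.mem_V'.1 h4 with e | e | e | e
  · exact absurd (by simpa using e) (P.la_x_ne i).1
  · exact ⟨k, P.mem_cent_V (mul_inv_eq_iff_eq_mul.1 e) (mul_inv_eq_iff_eq_mul.1 h3), h2⟩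
  · exact absurd (by simpa using e.trans h3.symm) (P.la_x_ne i).2
  · refine ⟨P.t (some (i, false)) (some (j, false)) * k, (P.lb_tr hj).mul ⟨h3, fun v hv v1 vd => ?_⟩ (P.d_sq i),
      fun m => by rw [← cj_cj, h2, P.lb_t_norm]⟩
    rcases P.mem_V'.1 hv with rfl | rfl | rfl | rfl
    exacts [absurd rfl v1, e, absurd rfl vd, by rw [← conj_mul, e, h3]]

theorem lb_same (i : ι) {f f' : ι → Bool × Bool} (hf : f i = (false, false))
    (h : ∀ m, f m = (false, false) ↔ f' m = (false, false)) :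
    ∃ g ∈ centralizer (P.V i : Set G), g * P.F (ee f) * g⁻¹ = P.F (ee f') := by
  have key : ∀ s : Finset ι, ∃ g ∈ centralizer (P.V i : Set G),
      g * P.F (ee f) * g⁻¹ = P.F (ee fun m => if m ∈ s then f' m else f m) := by
    intro s
    induction s using Finset.induction_on with
    | empty => exact ⟨1, one_mem _, by simp⟩
    | insert j s hj ih =>
      obtain ⟨g, hg, e⟩ := ih
      by_cases h0 : f j = (false, false)
      · refine ⟨g, hg, e.trans ?_⟩
        congr 2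
        funext m
        by_cases hm : m = j
        · simp [hm, hj, h0, (h j).1 h0]
        · simp [hm]
      obtain ⟨r, -, r2, r3⟩ := P.lb_loc j (P.mem_V.2 ⟨f j, rfl⟩) fun e => h0 (P.lb_sg_one.1 e)
      obtain ⟨r', -, r2', r3'⟩ := P.lb_loc j (P.mem_V.2 ⟨f' j, rfl⟩)
        fun e => h0 ((h j).2 (P.lb_sg_one.1 e))
      have hi : i ≠ j := fun e => h0 (e ▸ hf)
      refine ⟨r' * r⁻¹ * g, mul_mem (mul_mem (r2' i hi) (inv_mem (r2 i hi))) hg, ?_⟩
      rw [show r' * r⁻¹ * g * P.F (ee f) * (r' * r⁻¹ * g)⁻¹ =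
        r' * r⁻¹ * (g * P.F (ee f) * g⁻¹) * (r' * r⁻¹)⁻¹ by group, e]
      refine P.lb_act 1 (ψ := fun m => if m ∈ insert j s then f' m else f m) fun m => ?_
      by_cases hm : m = j
      · simp only [hm, if_neg hj, Finset.mem_insert_self, if_true, Perm.one_apply]
        rw [← r3, ← r3']; group
      · simp only [Finset.mem_insert, hm, false_or, Perm.one_apply]
        rw [← mul_mem (r2' m hm) (inv_mem (r2 m hm)) _ (P.mem_V.2 ⟨_, rfl⟩), mul_inv_cancel_right]
  simpa using key Finset.univ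

theorem fusE (i : ι) {f f' : ι → Bool × Bool} (hf : f i = (false, false)) (hf' : f' i = (false, false))
    (h : w (ee f) = w (ee f')) :
    ∃ g ∈ centralizer (P.V i : Set G), g * P.F (ee f) * g⁻¹ = P.F (ee f') := by
  induction hk : (Finset.univ.filter fun m => f m ≠ (false, false) ∧ f' m = (false, false)).card
    using Nat.strong_induction_on generalizing f with
  | _ k ih =>
  have h1 := h
  rw [w_ee, w_ee, mul_right_inj' (by norm_num)] at h1
  by_cases h2 : ∀ m, f m ≠ (false, false) → f' m ≠ (false, false)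
  · have h3 := Finset.eq_of_subset_of_card_le (fun m hm => by
      simpa using h2 m (by simpa using hm)) h1.ge
    refine P.lb_same i hf fun m => not_iff_not.1 ?_
    simpa using Finset.ext_iff.1 h3 m
  push Not at h2
  obtain ⟨j, j1, j2⟩ := h2
  obtain ⟨l, l1, l2⟩ : ∃ l, f' l ≠ (false, false) ∧ f l = (false, false) := by
    by_contra hn
    push Not at hn
    have h3 := Finset.eq_of_subset_of_card_le (fun m hm => by
      simpa using hn m (by simpa using hm)) h1.le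
    have := Finset.ext_iff.1 h3 j
    simp [j1, j2] at this
  have hjl : j ≠ l := fun e => j1 (e ▸ l2)
  obtain ⟨s, hs, h3⟩ := P.lb_swap' (i := i) hjl (fun e => j1 (e ▸ hf)) fun e => l1 (e ▸ hf')
  obtain ⟨f'', e1, e2⟩ := P.lb_act' h3 f
  have h4 := fun m => P.lb_zero (e2 m)
  obtain ⟨g, hg, e3⟩ := ih _ (by
      rw [← hk]
      refine Finset.card_lt_card ⟨fun m hm => ?_, fun hsub => ?_⟩
      · simp only [Finset.mem_filter, Finset.mem_univ, true_and] at hm ⊢
        have m1 : m ≠ l := fun e => l1 (e ▸ hm.2)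
        have m2 : m ≠ j := fun e => hm.1 (by rw [e, ← swap_apply_right j l, h4]; exact l2)
        exact ⟨fun e => hm.1 (by rw [← swap_apply_of_ne_of_ne m2 m1, h4]; exact e), hm.2⟩
      · have := hsub (show j ∈ _ by simp only [Finset.mem_filter, Finset.mem_univ, true_and]; exact ⟨j1, j2⟩)
        simp only [Finset.mem_filter, Finset.mem_univ, true_and] at this
        exact this.1 (by rw [← swap_apply_right j l, h4]; exact l2))
    (f := f'') (by
      rw [← swap_apply_of_ne_of_ne (a := j) (b := l) (x := i) (fun e => j1 (e ▸ hf))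
        fun e => l1 (e ▸ hf'), h4]
      exact hf) (by rw [← h, ← P.wt_ee, ← P.wt_ee, ← e1, P.wt_conj]) rfl
  exact ⟨g * s, mul_mem hg hs, by rw [← e3, ← e1]; group⟩

theorem lb_std {i : ι} (hi : P.Ext i) {x : G} (hx : x ∈ centralizer (P.V i : Set G)) (x2 : x * x = 1)
    (xU : x ∉ P.V i) (x4 : P.wt x = 4) : ∃ g ∈ centralizer (P.V i : Set G), ∃ f : ι → Bool × Bool,
      f i = (false, false) ∧ w (ee f) = 4 ∧ g * x * g⁻¹ = P.F (ee f) := by
  obtain ⟨g, hg, h1⟩ := P.intoE hi hx x2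
  obtain ⟨f, e⟩ := P.mem_E.1 h1
  have h2 : w (ee f) = 4 := by rw [← P.wt_ee, e, P.wt_conj, x4]
  refine ⟨g, hg, f, ?_, h2, e.symm⟩
  by_contra hn
  rw [w_ee] at h2
  have h3 := Finset.card_le_one.1 (show (Finset.univ.filter fun j => f j ≠ (false, false)).card ≤ 1 by
    omega) i (by simpa only [Finset.mem_filter, Finset.mem_univ, true_and] using hn)
  refine xU ?_
  rw [← conj_mem_cj (g := g), cj_eq_of_mem_centralizer hg, ← e]
  refine P.mem_V.2 ⟨f i, ?_⟩
  rw [sg]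
  congr 2
  funext m
  by_cases hm : m = i
  · simp [hm]
  · rw [if_neg hm]
    by_contra h4
    exact hm (h3 m (by
      simp only [Finset.mem_filter, Finset.mem_univ, true_and]; exact Ne.symm h4)).symm

theorem fusV {U : Subgroup G} (hU : P.IsV U) {x y : G} (hx : x ∈ centralizer (U : Set G))
    (hy : y ∈ centralizer (U : Set G)) (x2 : x * x = 1) (y2 : y * y = 1) (xU : x ∉ U) (yU : y ∉ U)
    (x4 : P.wt x = 4) (y4 : P.wt y = 4) : ∃ g ∈ centralizer (U : Set G), g * x * g⁻¹ = y := by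
  obtain ⟨i, hi⟩ := P.exists_ext
  obtain ⟨c, hc, c1⟩ := P.ln_exists hU
  obtain ⟨n, hn, -⟩ := P.toStd hU hc c1 i
  have key : ∀ x ∈ centralizer (U : Set G), x * x = 1 → x ∉ U → P.wt x = 4 → _ := fun x hx x2 xU x4 =>
    P.lb_std hi (x := n * x * n⁻¹) (by rw [← hn, ← cj_centralizer, conj_mem_cj]; exact hx)
      (AP.LocN.conj_sq x2 n) (by rw [← hn, conj_mem_cj]; exact xU) ((P.wt_conj n x).trans x4)
  obtain ⟨g, hg, f, f0, f4, e⟩ := key x hx x2 xU x4
  obtain ⟨g', hg', f', f0', f4', e'⟩ := key y hy y2 yU y4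
  obtain ⟨k, hk, e1⟩ := P.fusE i f0 f0' (f4.trans f4'.symm)
  refine ⟨n⁻¹ * (g'⁻¹ * k * g) * n, ?_, ?_⟩
  · rw [← mem_cj, cj_centralizer, hn]
    exact mul_mem (mul_mem (inv_mem hg') hk) hg
  · calc _ = n⁻¹ * g'⁻¹ * (k * (g * (n * x * n⁻¹) * g⁻¹) * k⁻¹) * g' * n := by group
      _ = y := by rw [e, e1, ← e']; group

end Pat

end Cfsg.Agent.AQ
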