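import Mathlib
import Cfsg.Agent.AQ.LocB
import Cfsg.Agent.GT.TransferEval

/-! The complement of `V i` in its centraliser has the pattern of the smaller alternating group. -/

set_option autoImplicit false
open Subgroup Equiv
open Cfsg.Agent.Inv.Fz

namespace Cfsg.Agent.AQ
open Cfsg.Agent.AP (w Y odd_Y cj_Y cj_Y_le via_via via_swap via_mul via_inj w_via via_mem_alt four_dvd_w conj_of_w)

universe u

namespace Red

/-- A projection of `C` onto `V`. -/
structure Prj {G : Type*} [Group G] (V C : Subgroup G) (χ : G → G) : Prop where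
  mem : ∀ g ∈ C, χ g ∈ V
  mul : ∀ g ∈ C, ∀ h ∈ C, χ (g * h) = χ g * χ h
  id : ∀ v ∈ V, χ v = v

/-- A projection of a Sylow subgroup onto a central four-group extends by transfer. -/
theorem Prj.extend {G : Type*} [Group G] [Finite G] {V R C : Subgroup G} (hR : IsSylIn 2 R C) (hVR : V ≤ R)
    (hc : ∀ g ∈ C, ∀ v ∈ V, v * g = g * v) (h2 : ∀ v ∈ V, v * v = 1) {ρ : G → G} (h : Prj V R ρ) :
    ∃ χ, Prj V C χ := by
  classical
  have hVC := hVR.trans hR.le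
  have key : ∃ τ : C →* V, ∀ v (hv : v ∈ V), τ ⟨v, hVC hv⟩ = ⟨v, hv⟩ := by
    let _ : CommGroup V := { (inferInstance : Group V) with
      mul_comm := fun a b => Subtype.ext (hc _ (hVC b.2) _ a.2) }
    let φ : R.subgroupOf C →* V := MonoidHom.mk' (fun g => ⟨ρ g, h.mem _ g.2⟩) fun a b =>
      Subtype.ext (h.mul _ a.2 _ b.2)
    refine ⟨MonoidHom.transfer φ, fun v hv => ?_⟩
    have h3 := GT.Tr.transfer_eq_pow_of_conj φ ⟨⟨v, hVC hv⟩, hVR hv⟩ fun k t _ => by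
      rw [← map_pow]
      congr 1
      refine Subtype.ext (Subtype.ext ?_)
      change (t : G)⁻¹ * v ^ k * t = v ^ k
      rw [mul_assoc, hc _ t.2 _ (pow_mem hv k), inv_mul_cancel_left]
    obtain ⟨n, hn⟩ := Nat.odd_iff.2 (Nat.two_dvd_ne_zero.1 hR.not_dvd_relIndex)
    have h4 : φ ⟨⟨v, hVC hv⟩, hVR hv⟩ = ⟨v, hv⟩ := Subtype.ext (h.id v hv)
    refine h3.trans ?_
    rw [h4, show (R.subgroupOf C).index = 2 * n + 1 from hn]
    refine Subtype.ext ?_
    change v ^ (2 * n + 1) = v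
    rw [pow_succ, pow_mul, pow_two, h2 v hv, one_pow, one_mul]
  obtain ⟨τ, hτ⟩ := key
  refine ⟨fun g => if k : g ∈ C then τ ⟨g, k⟩ else 1, fun g hg => ?_, fun g hg k hk => ?_, fun v hv => ?_⟩
  · simp only [dif_pos hg]
    exact Subtype.prop _
  · simp only [dif_pos hg, dif_pos hk, dif_pos (mul_mem hg hk)]
    exact congrArg Subtype.val (map_mul τ ⟨g, hg⟩ ⟨k, hk⟩)
  · simp only [dif_pos (hVC hv), hτ v hv]

namespace Prj
variable {G : Type*} [Group G] {V C : Subgroup G} {χ : G → G} (h : Prj V C χ)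
include h

theorem one : χ 1 = 1 := h.id 1 (one_mem V)

/-- The kernel. -/
def ker : Subgroup G where
  carrier := {g | g ∈ C ∧ χ g = 1}
  one_mem' := ⟨one_mem C, h.one⟩
  mul_mem' := fun ⟨a, b⟩ ⟨c, d⟩ => ⟨mul_mem a c, by rw [h.mul _ a _ c, b, d, mul_one]⟩
  inv_mem' := fun ⟨a, b⟩ => ⟨inv_mem a, by
    have := h.mul _ a _ (inv_mem a)
    rwa [mul_inv_cancel, h.one, b, one_mul, eq_comm] at this⟩

theorem conj_mem {g k : G} (hg : g ∈ C) (hk : k ∈ h.ker) : g * k * g⁻¹ ∈ h.ker :=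
  ⟨mul_mem (mul_mem hg hk.1) (inv_mem hg), by
    rw [h.mul _ (mul_mem hg hk.1) _ (inv_mem hg), h.mul _ hg _ hk.1, hk.2, mul_one, ← h.mul _ hg _ (inv_mem hg),
      mul_inv_cancel, h.one]⟩

theorem mul_mem_ker (hVC : V ≤ C) (h2 : ∀ v ∈ V, v * v = 1) {g : G} (hg : g ∈ C) : χ g * g ∈ h.ker :=
  ⟨mul_mem (hVC (h.mem g hg)) hg, by
    rw [h.mul _ (hVC (h.mem g hg)) _ hg, h.id _ (h.mem g hg), h2 _ (h.mem g hg)]⟩

end Prj

theorem ee_split {ι : Type} [DecidableEq ι] (i : ι) (f : ι → Bool × Bool) :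
    ee f = sg i (f i) * (ee fun j : {j // j ≠ i} => f j.1).viaEmbedding (up i) := by
  rw [up_ee, sg, ee_mul]
  congr 1
  ext l <;> by_cases h : l = i <;> simp [h]

variable {G : Type u} [Group G] {ι : Type} [Fintype ι] [DecidableEq ι] (P : Pat G ι) {i : ι}

theorem V_sq {v : G} (hv : v ∈ P.V i) : v * v = 1 := P.E_sq (P.V_le_E i hv)

theorem V_le : P.V i ≤ centralizer (P.V i : Set G) := (P.V_le_E i).trans (P.E_le_cent_V i)

theorem V0_le : V0 i ≤ P.T := (V0_le_J0 i).trans P.J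

theorem mem_V0 {g : G} : g ∈ P.V i ↔ ∃ v ∈ V0 i, P.F v = g := P.mem_im (V0_le P)

theorem up_mem {y : Perm (Pt {j // j ≠ i})} (hy : y.viaEmbedding (up i) ∈ P.T) :
    P.F (y.viaEmbedding (up i)) ∈ centralizer (P.V i : Set G) := fun g hg => by
  obtain ⟨v, hv, rfl⟩ := (mem_V0 P).1 hg
  exact (P.F_comm (V0_le P hv) hy).2 (up_comm i y hv)

theorem via_inv {α β : Type*} (e : α ↪ β) (y : Perm α) : y⁻¹.viaEmbedding e = (y.viaEmbedding e)⁻¹ :=
  map_inv (Perm.viaEmbeddingHom e) y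

theorem via_one {α β : Type*} (e : α ↪ β) : (1 : Perm α).viaEmbedding e = 1 := map_one (Perm.viaEmbeddingHom e)

theorem via_sq {α β : Type*} (e : α ↪ β) {y : Perm α} (h : y * y = 1) : y.viaEmbedding e * y.viaEmbedding e = 1 := by
  rw [← via_mul, h, via_one]

theorem split {g : G} (hg : g ∈ P.S ⊓ centralizer (P.V i : Set G)) :
    ∃ v ∈ V0 i, ∃ y : Perm (Pt {j // j ≠ i}), y.viaEmbedding (up i) ∈ P.T ∧ g = P.F (v * y.viaEmbedding (up i)) := by
  obtain ⟨y, hy, rfl⟩ := (P.mem g).1 hg.1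
  obtain ⟨v, hv, y', -, rfl⟩ := cen_split (P.sylA.le hy)
    ((P.F_comm hy (P.mx_mem i)).1 (hg.2 _ (P.x_mem_V i)).symm) ((P.F_comm hy (P.md_mem i)).1 (hg.2 _ (P.d_mem_V i)).symm)
  exact ⟨v, hv, y', (mul_mem_cancel_left (V0_le P hv)).1 hy, rfl⟩

theorem uniq {u v : Perm (Pt ι)} (hu : u ∈ V0 i) (hv : v ∈ V0 i) {y z : Perm (Pt {j // j ≠ i})}
    (hy : y.viaEmbedding (up i) ∈ P.T) (hz : z.viaEmbedding (up i) ∈ P.T)
    (e : P.F (u * y.viaEmbedding (up i)) = P.F (v * z.viaEmbedding (up i))) : u = v := by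
  have h1 := P.F_inj (mul_mem (V0_le P hu) hy) (mul_mem (V0_le P hv) hz) e
  refine (inv_mul_eq_one.1 (eq_one_of_mul_up i (y := y * z⁻¹) (mul_mem (inv_mem hv) hu) ?_).1).symm
  rw [via_mul, via_inv, mul_assoc, ← mul_assoc u, h1]
  group

theorem exists_prj [Finite G] (hi : P.Ext i) : ∃ χ, Prj (P.V i) (centralizer (P.V i : Set G)) χ := by
  have h1 : ∀ g, ∃ v, g ∈ P.S ⊓ centralizer (P.V i : Set G) → v ∈ V0 i ∧ ∃ y : Perm (Pt {j // j ≠ i}),
      y.viaEmbedding (up i) ∈ P.T ∧ g = P.F (v * y.viaEmbedding (up i)) := fun g => by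
    by_cases hg : g ∈ P.S ⊓ centralizer (P.V i : Set G)
    · exact (split P hg).imp fun _ k _ => k
    · exact ⟨1, fun k => absurd k hg⟩
  choose ρ hρ using h1
  have hV : P.V i ≤ P.S ⊓ centralizer (P.V i : Set G) := le_inf ((P.V_le_E i).trans P.E_le_S) (V_le P)
  refine Prj.extend hi.sylV hV (fun g hg v hv => hg v hv) (fun v => V_sq P) (ρ := fun g => P.F (ρ g))
    ⟨fun g hg => (mem_V0 P).2 ⟨_, (hρ g hg).1, rfl⟩, fun g hg k hk => ?_, fun g hg => ?_⟩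
  · obtain ⟨a1, y, a2, a3⟩ := hρ g hg
    obtain ⟨b1, z, b2, b3⟩ := hρ k hk
    obtain ⟨c1, x, c2, c3⟩ := hρ _ (mul_mem hg hk)
    rw [← P.mul _ (V0_le P a1) _ (V0_le P b1)]
    congr 1
    refine uniq P (z := y * z) c1 (mul_mem a1 b1) c2 (via_mul _ y z ▸ mul_mem a2 b2) ?_
    rw [← c3, via_mul, mul_assoc, ← mul_assoc (ρ k), up_comm i y b1, mul_assoc, ← mul_assoc,
      P.mul _ (mul_mem (V0_le P a1) a2) _ (mul_mem (V0_le P b1) b2), ← a3, ← b3]
  · obtain ⟨a1, y, a2, a3⟩ := hρ g (hV hg)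
    obtain ⟨v, hv, e⟩ := (mem_V0 P).1 hg
    refine Eq.trans (congrArg P.F (uniq P (z := 1) a1 hv a2 (via_one (up i) ▸ one_mem _) ?_)) e
    rw [← a3, via_one, mul_one, e]

theorem wt_up {y : Perm (Pt {j // j ≠ i})} (hy : y.viaEmbedding (up i) ∈ P.T) (y2 : y * y = 1) :
    P.wt (P.F (y.viaEmbedding (up i))) = w y := by
  rw [P.wt_F hy (via_sq _ y2), w_via]

theorem up_notMem {y : Perm (Pt {j // j ≠ i})} (hy : y.viaEmbedding (up i) ∈ P.T) (h4 : w y = 4) :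
    P.F (y.viaEmbedding (up i)) ∉ P.V i := fun k => by
  obtain ⟨v, hv, e⟩ := (mem_V0 P).1 k
  have h1 := (eq_one_of_mul_up i (y := y) (inv_mem hv) (inv_mul_eq_one.2 (P.F_inj (V0_le P hv) hy e))).2
  rw [h1] at h4
  simp [w] at h4

theorem up_ee_mem (f : {j // j ≠ i} → Bool × Bool) : (ee f).viaEmbedding (up i) ∈ P.T := up_ee i f ▸ P.ee_mem _

variable [Finite G] [Nontrivial ι]

theorem into (hi : P.Ext i) {y : Perm (Pt {j // j ≠ i})} (hy : y.viaEmbedding (up i) ∈ P.T) (y2 : y * y = 1) :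
    ∃ g ∈ centralizer (P.V i : Set G), ∃ f : {j // j ≠ i} → Bool × Bool, w (ee f) = w y ∧
      g * P.F (y.viaEmbedding (up i)) * g⁻¹ = P.F ((ee f).viaEmbedding (up i)) := by
  obtain ⟨g, hg, k⟩ := P.intoE hi (up_mem P hy) ((P.F_sq hy).2 (via_sq _ y2))
  obtain ⟨f, e⟩ := P.mem_E.1 k
  have h1 : w (ee f) = w y := by rw [← P.wt_ee, e, P.wt_conj, wt_up P hy y2]
  have h2 := up_ee_mem P fun j : {j // j ≠ i} => f j.1
  have hv : sg i (f i) ∈ V0 i := ⟨_, rfl⟩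
  rw [ee_split i f] at e h1
  by_cases h0 : sg i (f i) = 1
  · rw [h0, one_mul] at e h1
    exact ⟨g, hg, _, by rwa [w_via] at h1, e.symm⟩
  exfalso
  have h3 : g * P.F (sg i (f i) * y.viaEmbedding (up i)) * g⁻¹ =
      P.F ((ee fun j : {j // j ≠ i} => f j.1).viaEmbedding (up i)) := by
    rw [P.mul _ (V0_le P hv) _ hy, ← mul_assoc, ← hg _ ((mem_V0 P).2 ⟨_, hv, rfl⟩), mul_assoc, mul_assoc,
      ← mul_assoc g, ← e, ← P.mul _ (V0_le P hv) _ (mul_mem (V0_le P hv) h2), ← mul_assoc, sg_sq, one_mul]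
  have h4 := congrArg P.wt h3
  rw [P.wt_conj, wt_up P h2 (ee_sq _), P.wt_F (mul_mem (V0_le P hv) hy) (by
    rw [mul_assoc, ← mul_assoc _ (sg i (f i)), ← up_comm i y hv, mul_assoc, via_sq _ y2, mul_one, sg_sq]),
    w_mul_up i y hv h0] at h4
  rw [w_mul_up i _ hv h0] at h1
  omega

theorem fus_up (hi : P.Ext i) {x y : Perm (Pt {j // j ≠ i})} (hx : x.viaEmbedding (up i) ∈ P.T)
    (hy : y.viaEmbedding (up i) ∈ P.T) (x2 : x * x = 1) (y2 : y * y = 1) (e : w x = w y) :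
    ∃ g ∈ centralizer (P.V i : Set G), g * P.F (x.viaEmbedding (up i)) * g⁻¹ = P.F (y.viaEmbedding (up i)) := by
  obtain ⟨a, ha, f, a1, a2⟩ := into P hi hx x2
  obtain ⟨b, hb, f', b1, b2⟩ := into P hi hy y2
  obtain ⟨c, hc, c1⟩ := P.fusE i (f := fun j => if h : j = i then (false, false) else f ⟨j, h⟩)
    (f' := fun j => if h : j = i then (false, false) else f' ⟨j, h⟩) (by simp) (by simp) (by
      rw [← up_ee, ← up_ee, w_via, w_via, a1, b1, e])
  rw [← up_ee, ← up_ee, ← a2, ← b2] at c1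
  refine ⟨b⁻¹ * c * a, mul_mem (mul_mem (inv_mem hb) hc) ha, ?_⟩
  calc _ = b⁻¹ * (c * (a * P.F (x.viaEmbedding (up i)) * a⁻¹) * c⁻¹) * b := by group
    _ = _ := by rw [c1]; group

variable {P} {χ : G → G} (h : Prj (P.V i) (centralizer (P.V i : Set G)) χ) (hi : P.Ext i)
include h hi

theorem ker_four [Nontrivial {j // j ≠ i}] {y : Perm (Pt {j // j ≠ i})} (hy : y.viaEmbedding (up i) ∈ P.T)
    (y2 : y * y = 1) (h4 : w y = 4) : P.F (y.viaEmbedding (up i)) ∈ h.ker := by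
  obtain ⟨j, l, hjl⟩ := exists_pair_ne {j // j ≠ i}
  have k : ∀ z ∈ J0 {j // j ≠ i}, P.F (z.viaEmbedding (up i)) ∈ centralizer (P.V i : Set G) := fun z hz =>
    up_mem P (P.J (up_mem_J0 i hz))
  have h1 : P.t (some (j.1, false)) (some (l.1, false)) ∈ centralizer (P.V i : Set G) := by
    simpa only [up_tt, upP_some] using k _ (tt_mem_J0 (some (j, false)) (some (l, false)))
  have h2 : P.x j.1 ∈ centralizer (P.V i : Set G) := P.E_le_cent_V i (P.V_le_E _ (P.x_mem_V _))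
  have h3 : P.d j.1 ∈ centralizer (P.V i : Set G) := P.E_le_cent_V i (P.V_le_E _ (P.d_mem_V _))
  have h5 := congrArg χ (mul_inv_eq_iff_eq_mul.1
    (P.t_conj_x j.1 false (b := some (l.1, false)) fun e => hjl (Subtype.ext (Option.some.inj e).symm)))
  rw [h.mul _ h1 _ h2, h.mul _ (mul_mem h2 h3) _ h1, h.mul _ h2 _ h3, V_le P (h.mem _ h2) _ (h.mem _ h1),
    mul_left_inj, left_eq_mul] at h5
  obtain ⟨g, hg, e⟩ := fus_up P hi (P.J (up_mem_J0 i (md_mem_J0 j))) hy (md_sq j) y2 (by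
    rw [h4, md, w_sg j (by simp)])
  rw [← e, md, up_sg]
  exact h.conj_mem hg ⟨h3, h5⟩

theorem ker_J0 [Nontrivial {j // j ≠ i}] {y : Perm (Pt {j // j ≠ i})} (hy : y ∈ J0 {j // j ≠ i}) :
    P.F (y.viaEmbedding (up i)) ∈ h.ker := by
  induction hy using closure_induction with
  | mem x hx =>
    rcases hx with ⟨a, b, rfl⟩ | ⟨j, rfl⟩
    · by_cases hab : a = b
      · rw [hab, tt_self, via_one, P.F_one]
        exact one_mem _
      · exact ker_four h hi (P.J (up_mem_J0 i (tt_mem_J0 a b))) (tt_sq a b) (w_tt hab)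
    · exact ker_four h hi (P.J (up_mem_J0 i (mx_mem_J0 j))) (mx_sq j) (w_sg j (by simp))
  | one => rw [via_one, P.F_one]; exact one_mem _
  | mul x y hx hy a b =>
    rw [via_mul, P.mul _ (P.J (up_mem_J0 i hx)) _ (P.J (up_mem_J0 i hy))]
    exact mul_mem a b
  | inv x hx a =>
    rw [via_inv, P.F_inv (P.J (up_mem_J0 i hx))]
    exact inv_mem a

theorem ker_inv [Nontrivial {j // j ≠ i}] {y : Perm (Pt {j // j ≠ i})} (hy : y.viaEmbedding (up i) ∈ P.T)
    (y2 : y * y = 1) : P.F (y.viaEmbedding (up i)) ∈ h.ker := by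
  obtain ⟨g, hg, f, -, e⟩ := into P hi hy y2
  have := h.conj_mem (inv_mem hg) (e ▸ ker_J0 h hi (E0_le_J0 ⟨f, rfl⟩))
  rwa [show ∀ a : G, g⁻¹ * (g * a * g⁻¹) * g⁻¹⁻¹ = a from fun a => by group] at this

omit [Nontrivial ι] in
theorem syl_ker : IsSylIn 2 (P.S ⊓ centralizer (P.V i : Set G) ⊓ h.ker) h.ker :=
  hi.sylV.inf_of_le_normalizer (fun _ k => k.1) fun _ hg => mem_normalizer_of_conj_mem fun _ k => h.conj_mem hg k

omit hi [Finite G] [Nontrivial ι] in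
open Classical in
/-- The model map for the complement. -/
noncomputable def FF (y : Perm (Pt {j // j ≠ i})) : h.ker :=
  if k : y.viaEmbedding (up i) ∈ P.T then ⟨_, h.mul_mem_ker (V_le P) (fun _ => V_sq P) (up_mem P k)⟩ else 1

omit hi [Finite G] [Nontrivial ι] in
theorem coe_FF {y : Perm (Pt {j // j ≠ i})} (hy : y.viaEmbedding (up i) ∈ P.T) :
    (FF h y : G) = χ (P.F (y.viaEmbedding (up i))) * P.F (y.viaEmbedding (up i)) := by
  rw [FF, dif_pos hy]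

omit hi [Finite G] [Nontrivial ι] in
theorem coe_FF' {y : Perm (Pt {j // j ≠ i})} (hy : y.viaEmbedding (up i) ∈ P.T)
    (k : P.F (y.viaEmbedding (up i)) ∈ h.ker) : (FF h y : G) = P.F (y.viaEmbedding (up i)) := by
  rw [coe_FF h hy, k.2, one_mul]

/-- The pattern of the complement. -/
noncomputable def pat [Nontrivial {j // j ≠ i}] : Pat h.ker {j // j ≠ i} where
  T := P.T.comap (Perm.viaEmbeddingHom (up i))
  S := (syl_ker h hi).toSylow
  F := FF h
  J := fun _ hy => P.J (up_mem_J0 i hy)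
  sylA := sylA_up (V0_le P) hi.sylM
  sylG := isSylIn_top _
  mul x hx y hy := Subtype.ext (by
    have hx : x.viaEmbedding (up i) ∈ P.T := hx
    have hy : y.viaEmbedding (up i) ∈ P.T := hy
    rw [coe_mul, coe_FF h hx, coe_FF h hy, coe_FF h (via_mul _ x y ▸ mul_mem hx hy), via_mul, P.mul _ hx _ hy,
      h.mul _ (up_mem P hx) _ (up_mem P hy), mul_assoc, mul_assoc, ← mul_assoc (χ _) (P.F _),
      up_mem P hx _ (h.mem _ (up_mem P hy)), mul_assoc])
  inj x hx e := by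
    have hx : x.viaEmbedding (up i) ∈ P.T := hx
    have h1 := congrArg Subtype.val e
    obtain ⟨v, hv, e'⟩ := (mem_V0 P).1 (h.mem _ (up_mem P hx))
    rw [coe_FF h hx, ← e', ← P.mul _ (V0_le P hv) _ hx] at h1
    exact (eq_one_of_mul_up i hv (P.inj _ (mul_mem (V0_le P hv) hx) h1)).2
  mem g := by
    refine ⟨fun k => ?_, ?_⟩
    · obtain ⟨v, hv, y, hy, e⟩ := split P (g := g) k.1
      have h1 : P.F v ∈ P.V i := (mem_V0 P).2 ⟨v, hv, rfl⟩
      refine ⟨y, hy, Subtype.ext ?_⟩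
      have h2 := g.2.2
      rw [P.mul _ (V0_le P hv) _ hy] at e
      rw [e, h.mul _ (V_le P h1) _ (up_mem P hy), h.id _ h1] at h2
      rw [coe_FF h hy, e, eq_inv_of_mul_eq_one_right h2, inv_eq_of_mul_eq_one_right (V_sq P h1)]
    · rintro ⟨y, hy, rfl⟩
      have hy : y.viaEmbedding (up i) ∈ P.T := hy
      refine ⟨⟨?_, (FF h y).2.1⟩, (FF h y).2⟩
      change (FF h y : G) ∈ P.S
      rw [coe_FF h hy]
      exact mul_mem (P.E_le_S (P.V_le_E i (h.mem _ (up_mem P hy)))) (P.F_mem hy)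
  fus x hx y hy x2 y2 := by
    have hx : x.viaEmbedding (up i) ∈ P.T := hx
    have hy : y.viaEmbedding (up i) ∈ P.T := hy
    have e1 := coe_FF' h hx (ker_inv h hi hx x2)
    have e2 := coe_FF' h hy (ker_inv h hi hy y2)
    refine ⟨fun k => ?_, fun k => ?_⟩
    · have h1 := h.ker.subtype.map_isConj k
      rw [coe_subtype, e1, e2, P.fus _ hx _ hy (via_sq _ x2) (via_sq _ y2), w_via, w_via] at h1
      exact h1
    · obtain ⟨g, hg, e⟩ := fus_up P hi hx hy x2 y2 k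
      refine isConj_iff.2 ⟨⟨_, h.mul_mem_ker (V_le P) (fun _ => V_sq P) hg⟩, Subtype.ext ?_⟩
      rw [coe_mul, coe_mul, coe_inv, e1, e2]
      calc _ = χ g * (g * P.F (x.viaEmbedding (up i)) * g⁻¹) * (χ g)⁻¹ := by simp only [mul_inv_rev, mul_assoc]
        _ = _ := by rw [e, up_mem P hy _ (h.mem g hg), mul_inv_cancel_right]

end Red

open Red in
theorem Pat.exists_cmp {G : Type u} [Group G] [Finite G] {ι : Type} [Fintype ι] [DecidableEq ι] (P : Pat G ι)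
    (h3 : 3 ≤ Fintype.card ι) {i : ι} (hi : P.Ext i)
    (ih : ∀ (H : Type u) [Group H] [Finite H] (Q : Pat H {j // j ≠ i}), Q.Concl) :
    ∃ (γ : Type) (_ : Fintype γ) (_ : DecidableEq γ), Nonempty (P.Cmp i γ) := by
  have : Nontrivial ι := Fintype.one_lt_card_iff_nontrivial.1 (by omega)
  have : Nontrivial {j // j ≠ i} := Fintype.one_lt_card_iff_nontrivial.1 (by
    rw [Fintype.card_subtype_compl, Fintype.card_subtype_eq]; omega)
  obtain ⟨χ, h⟩ := exists_prj P hi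
  obtain ⟨γ, _, _, e, π, h1, h2, h4, h5⟩ := ih h.ker (pat h hi)
  refine ⟨γ, inferInstance, inferInstance, ⟨⟨e, h.ker, π, h1, fun _ k => k.1, eq_bot_iff.2 fun v k => ?_,
    fun g hg => ⟨χ g, h.mem g hg, _, h.mul_mem_ker (V_le P) (fun _ => V_sq P) hg, ?_⟩, h2, h4,
    fun y hy => ⟨ker_J0 h hi hy, ?_⟩⟩⟩⟩
  · exact (h.id v k.2).symm.trans k.1.2
  · rw [← mul_assoc, V_sq P (h.mem g hg), one_mul]
  · rw [← h5 y hy]
    congr 1
    exact Subtype.ext (coe_FF' h (P.J (up_mem_J0 i hy)) (ker_J0 h hi hy)).symm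

end Cfsg.Agent.AQ
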